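import Cfsg.Prelude.Def_OddOrderLocal
import Cfsg.Agent.BGSigma.PiCore
import Cfsg.Agent.Lib.PGroup.Basic

/-!
Three conjugates of a Hall subgroup of a `π`-solvable group meet in the core, given two-point
bases for coprime solvable automorphism groups.
-/

set_option autoImplicit false
set_option linter.unusedSectionVars false

universe u

namespace Cfsg.Agent.HT72

open Cfsg
open scoped Pointwise

/-- The chain in the definition of `π`-solvability. -/
def PiChain (π : Set ℕ) (G : Type u) [Group G] : Prop :=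
  ∃ (n : ℕ) (N : Fin (n + 1) → Subgroup G), N 0 = ⊥ ∧ N (Fin.last n) = ⊤ ∧ Monotone N ∧
    (∀ i, (N i).Normal) ∧
    ∀ i : Fin n, (∃ p ∈ π, p.Prime ∧ ∃ k : ℕ, (N i.castSucc).relIndex (N i.succ) = p ^ k) ∨
      (∀ q : ℕ, q.Prime → q ∣ (N i.castSucc).relIndex (N i.succ) → q ∉ π)

/-- Two-point bases for coprime solvable groups of automorphisms. -/
def TwoPointProp : Prop :=
  ∀ (A K : Type u) [Group A] [Finite A] [Group K] [Finite K] [MulDistribMulAction A K]
    [FaithfulSMul A K], Group.IsSolvable A → (Nat.card A).Coprime (Nat.card K) →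
      ∃ x y : K, ∀ a : A, a • x = x → a • y = y → a = 1

variable {G : Type u} [Group G] [Finite G] {π : Set ℕ}

theorem relIndex_dvd_of_normal_left (a : Subgroup G) [a.Normal] {X b : Subgroup G} (hX : X ≤ b) :
    a.relIndex X ∣ a.relIndex b := by
  rw [← Subgroup.relIndex_subgroupOf hX]
  exact Subgroup.relIndex_dvd_index_of_normal (H := a.subgroupOf b) (K := X.subgroupOf b)

theorem card_mul_relIndex' {a b : Subgroup G} (h : a ≤ b) :
    Nat.card a * a.relIndex b = Nat.card b := by
  rw [← Subgroup.relIndex_bot_left, ← Subgroup.relIndex_bot_left]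
  exact Subgroup.relIndex_mul_relIndex ⊥ a b bot_le h

theorem PiChain.map (h : PiChain π G) {G' : Type u} [Group G'] (f : G →* G')
    (hf : Function.Surjective f) : PiChain π G' := by
  obtain ⟨n, N, h0, hl, hmono, hn, hfac⟩ := h
  refine ⟨n, fun i => (N i).map f, by simp [h0],
    by show (N (Fin.last n)).map f = ⊤; rw [hl, Subgroup.map_top_of_surjective f hf],
    fun i j hij => Subgroup.map_mono (hmono hij), fun i => (hn i).map f hf, fun i => ?_⟩
  have hdvd : ((N i.castSucc).map f).relIndex ((N i.succ).map f) ∣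
      (N i.castSucc).relIndex (N i.succ) := by
    rw [← Subgroup.relIndex_comap, Subgroup.comap_map_eq]
    exact Subgroup.relIndex_dvd_of_le_left _ le_sup_left
  rcases hfac i with ⟨p, hpπ, hp, k, hk⟩ | hq
  · obtain ⟨j, -, hj⟩ := (Nat.dvd_prime_pow hp).1 (hk ▸ hdvd)
    exact Or.inl ⟨p, hpπ, hp, j, hj⟩
  · exact Or.inr fun q hq' hd => hq q hq' (hd.trans hdvd)

/-- A `π`-subgroup of a `π`-solvable group is solvable. -/
theorem PiChain.isSolvable (h : PiChain π G) {H : Subgroup G}
    (hH : BGSigma.IsPiSub π H) : Group.IsSolvable H := by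
  obtain ⟨n, N, h0, hl, hmono, hn, hfac⟩ := h
  suffices ∀ i : Fin (n + 1), Group.IsSolvable ↥((N i).subgroupOf H) by
    have := this (Fin.last n)
    rw [hl, Subgroup.top_subgroupOf] at this
    exact Group.isSolvable_of_surjective (f := (Subgroup.topEquiv (G := H)).toMonoidHom)
      (Subgroup.topEquiv (G := H)).surjective
  intro i
  induction i using Fin.induction with
  | zero =>
    rw [h0, Subgroup.bot_subgroupOf]
    infer_instance
  | succ i ih =>
    set a := (N i.castSucc).subgroupOf H
    set b := (N i.succ).subgroupOf H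
    have hab : a ≤ b := Subgroup.comap_mono (hmono (Fin.castSucc_le_succ i))
    haveI := hn i.castSucc
    haveI : a.Normal := (hn i.castSucc).subgroupOf H
    haveI : (a.subgroupOf b).Normal := inferInstance
    haveI : Group.IsSolvable ↥(a.subgroupOf b) := Group.isSolvable_of_surjective
      (f := (Subgroup.subgroupOfEquivOfLe hab).symm.toMonoidHom)
      (Subgroup.subgroupOfEquivOfLe hab).symm.surjective
    have hsolq : Group.IsSolvable (↥b ⧸ a.subgroupOf b) := by
      have hd : Nat.card (↥b ⧸ a.subgroupOf b) ∣ (N i.castSucc).relIndex (N i.succ) := by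
        show (a.subgroupOf b).index ∣ _
        show a.relIndex b ∣ _
        rw [show a = (N i.castSucc).comap H.subtype from rfl, Subgroup.relIndex_comap,
          show b = (N i.succ).subgroupOf H from rfl, Subgroup.subgroupOf_map_subtype]
        exact relIndex_dvd_of_normal_left _ inf_le_left
      have hdH : Nat.card (↥b ⧸ a.subgroupOf b) ∣ Nat.card H :=
        (Subgroup.card_quotient_dvd_card _).trans (Subgroup.card_subgroup_dvd_card b)
      rcases hfac i with ⟨p, -, hp, k, hk⟩ | hq
      · haveI : Fact p.Prime := ⟨hp⟩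
        obtain ⟨j, -, hj⟩ := (Nat.dvd_prime_pow hp).1 (hk ▸ hd)
        haveI := (IsPGroup.of_card hj).isNilpotent
        infer_instance
      · have h1 : Nat.card (↥b ⧸ a.subgroupOf b) = 1 :=
          Nat.eq_one_iff_not_exists_prime_dvd.2 fun q hq' hd' =>
            hq q hq' (hd'.trans hd) (hH q hq' (hd'.trans hdH))
        haveI : Subsingleton (↥b ⧸ a.subgroupOf b) := (Nat.card_eq_one_iff_unique.1 h1).1
        infer_instance
    haveI := hsolq
    exact Group.isSolvable_of_ker_le_range (a.subgroupOf b).subtype (QuotientGroup.mk' (a.subgroupOf b))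
      (by rw [QuotientGroup.ker_mk', Subgroup.range_subtype])

/-- Hall-Higman Lemma 1.2.3 for `π`-solvable groups. -/
theorem PiChain.centralizer_le (h : PiChain π G) (hO : piCore π G = ⊥) :
    Subgroup.centralizer (piCore {q | q ∉ π} G : Set G) ≤ piCore {q | q ∉ π} G := by
  obtain ⟨n, N, h0, hl, hmono, hn, hfac⟩ := h
  set R := piCore {q | q ∉ π} G
  set C := Subgroup.centralizer (R : Set G)
  haveI : C.Normal := inferInstance
  have key : ∀ i : Fin (n + 1), N i ⊓ C ≤ R := by
    intro i
    induction i using Fin.induction with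
    | zero => rw [h0, bot_inf_eq]; exact bot_le
    | succ i ih =>
      set a := N i.castSucc
      set b := N i.succ
      haveI : b.Normal := hn i.succ
      haveI : a.Normal := hn i.castSucc
      have hdvd : (a ⊓ C).relIndex (b ⊓ C) ∣ a.relIndex b := by
        have : (a ⊓ C).relIndex (b ⊓ C) = a.relIndex (b ⊓ C) := by
          have e : a ⊓ C ⊓ (b ⊓ C) = a ⊓ (b ⊓ C) := by
            apply le_antisymm
            · exact inf_le_inf_right _ inf_le_left
            · exact le_inf (le_inf inf_le_left (inf_le_right.trans inf_le_right)) inf_le_right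
          rw [← Subgroup.inf_relIndex_right, e, Subgroup.inf_relIndex_right]
        rw [this]
        exact relIndex_dvd_of_normal_left _ inf_le_left
      have hab : a ⊓ C ≤ b ⊓ C := inf_le_inf_right _ (hmono (Fin.castSucc_le_succ i))
      have hcardbC : Nat.card ↥(b ⊓ C) = Nat.card ↥(a ⊓ C) * (a ⊓ C).relIndex (b ⊓ C) :=
        (card_mul_relIndex' hab).symm
      have hRπ : BGSigma.IsPiSub {q | q ∉ π} (a ⊓ C) := BGSigma.isPiSub_piCore.mono_le ih
      rcases hfac i with ⟨p, hpπ, hp, k, hk⟩ | hq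
      · haveI : Fact p.Prime := ⟨hp⟩
        -- a Sylow subgroup of b ⊓ C is normal in G
        obtain ⟨P⟩ : Nonempty (Sylow p ↥(b ⊓ C)) := inferInstance
        set Z := (a ⊓ C).subgroupOf (b ⊓ C)
        haveI : Z.Normal := (inferInstance : (a ⊓ C).Normal).subgroupOf _
        have hZ : ∀ z : ↥(b ⊓ C), z ∈ Z → ∀ x : ↥(b ⊓ C), Commute z x := fun z hz x =>
          Subtype.ext (Subgroup.mem_centralizer_iff.1 x.2.2 _ (ih hz))
        have hZp : ¬ p ∣ Nat.card Z := by
          rw [Nat.card_congr (Subgroup.subgroupOfEquivOfLe hab).toEquiv]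
          exact fun hd => hRπ p hp hd hpπ
        obtain ⟨j, -, hj⟩ := (Nat.dvd_prime_pow hp).1 (hk ▸ hdvd)
        have hsup : Z ⊔ (P : Subgroup ↥(b ⊓ C)) = ⊤ := by
          refine Subgroup.index_eq_one.1 (Nat.eq_one_iff_not_exists_prime_dvd.2 fun q hq' hd => ?_)
          have h1 : q ∣ Z.index := hd.trans (Subgroup.index_dvd_of_le le_sup_left)
          have h2 : q ∣ (P : Subgroup ↥(b ⊓ C)).index :=
            hd.trans (Subgroup.index_dvd_of_le le_sup_right)
          have hqp : q = p := by
            rw [show Z.index = (a ⊓ C).relIndex (b ⊓ C) from rfl, hj] at h1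
            exact (Nat.prime_dvd_prime_iff_eq hq' hp).1 (hq'.dvd_of_dvd_pow h1)
          exact P.not_dvd_index (hqp ▸ h2)
        have hPn : (P : Subgroup ↥(b ⊓ C)).Normal := by
          rw [← Subgroup.normalizer_eq_top_iff, eq_top_iff, ← hsup]
          refine sup_le (fun z hz => ?_) Subgroup.le_normalizer
          rw [Subgroup.mem_normalizer_iff]
          intro x
          rw [(hZ z hz x).eq, mul_inv_cancel_right]
        haveI := hPn
        haveI := Sylow.characteristic_of_normal P hPn
        haveI : (b ⊓ C).Normal := inferInstance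
        have hnG : ((P : Subgroup ↥(b ⊓ C)).map (b ⊓ C).subtype).Normal :=
          ConjAct.normal_of_characteristic_of_normal
        have hP1 : (P : Subgroup ↥(b ⊓ C)).map (b ⊓ C).subtype ≤ ⊥ := by
          rw [← hO]
          refine BGSigma.le_piCore hnG fun q hq' hd => ?_
          rw [Subgroup.card_map_of_injective (b ⊓ C).subtype_injective] at hd
          obtain ⟨m, hm⟩ := IsPGroup.iff_card.1 P.isPGroup'
          rw [hm] at hd
          rw [(Nat.prime_dvd_prime_iff_eq hq' hp).1 (hq'.dvd_of_dvd_pow hd)]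
          exact hpπ
        have hPbot : (P : Subgroup ↥(b ⊓ C)) = ⊥ :=
          (Subgroup.map_eq_bot_iff_of_injective _ (b ⊓ C).subtype_injective).1 (le_bot_iff.1 hP1)
        rw [hPbot, sup_bot_eq, Subgroup.subgroupOf_eq_top] at hsup
        exact hsup.trans ih
      · refine BGSigma.le_piCore inferInstance fun q hq' hd => ?_
        rw [hcardbC] at hd
        rcases hq'.dvd_mul.1 hd with hd | hd
        · exact hRπ q hq' hd
        · exact hq q hq' (hd.trans hdvd)
  have := key (Fin.last n)
  rwa [hl, top_inf_eq] at this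

/-- The case of trivial core. -/
theorem three_conjugates_of_core_bot (hT : TwoPointProp.{u}) (h : PiChain π G)
    (hO : piCore π G = ⊥) (H : Subgroup G) (hH : BGSigma.IsPiSub π H) :
    ∃ x y : G, ∀ g ∈ H, g ∈ MulAut.conj x • H → g ∈ MulAut.conj y • H → g = 1 := by
  set R := piCore {q | q ∉ π} G with hR
  have hHR : H ⊓ R = ⊥ := BGSigma.isPiSub_inf_eq_bot hH BGSigma.isPiSub_piCore
    fun p _ hp hn => hn hp
  letI : MulDistribMulAction H R :=
    MulDistribMulAction.compHom R ((MulAut.conjNormal (H := R)).comp H.subtype)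
  have hsmul : ∀ (a : H) (r : R), ((a • r : R) : G) = (a : G) * r * (a : G)⁻¹ := fun a r => rfl
  haveI : FaithfulSMul H R := ⟨fun {a b} hab => by
    have hc : (b : G)⁻¹ * a ∈ Subgroup.centralizer (R : Set G) := by
      refine Subgroup.mem_centralizer_iff.2 fun r hr => ?_
      have h1 : (a : G) * r * (a : G)⁻¹ = (b : G) * r * (b : G)⁻¹ := by
        rw [← hsmul a ⟨r, hr⟩, ← hsmul b ⟨r, hr⟩, hab]
      calc r * ((b : G)⁻¹ * a) = (b : G)⁻¹ * ((b : G) * r * (b : G)⁻¹) * a := by group
        _ = (b : G)⁻¹ * ((a : G) * r * (a : G)⁻¹) * a := by rw [h1]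
        _ = (b : G)⁻¹ * a * r := by group
    have h2 : (b : G)⁻¹ * a ∈ H ⊓ R :=
      ⟨H.mul_mem (H.inv_mem b.2) a.2, h.centralizer_le hO hc⟩
    rw [hHR, Subgroup.mem_bot, inv_mul_eq_one] at h2
    exact Subtype.ext h2.symm⟩
  obtain ⟨x, y, hxy⟩ := hT H R (h.isSolvable hH)
    (Nat.coprime_of_dvd fun q hq h1 h2 => BGSigma.isPiSub_piCore q hq h2 (hH q hq h1))
  refine ⟨x, y, fun g hg hx hy => congrArg Subtype.val (hxy ⟨g, hg⟩ ?_ ?_)⟩
  all_goals apply Subtype.ext; rw [hsmul]
  · exact fix_of_mem hHR hg x.2 hx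
  · exact fix_of_mem hHR hg y.2 hy
where
  fix_of_mem {H R : Subgroup G} [R.Normal] (hHR : H ⊓ R = ⊥) {g x : G} (hg : g ∈ H) (hx : x ∈ R)
      (hgx : g ∈ MulAut.conj x • H) : g * x * g⁻¹ = x := by
    rw [Subgroup.mem_pointwise_smul_iff_inv_smul_mem] at hgx
    have h1 : x⁻¹ * g * x ∈ H := by simpa using hgx
    have h2 : g⁻¹ * (x⁻¹ * g * x) ∈ H ⊓ R := by
      refine ⟨H.mul_mem (H.inv_mem hg) h1, ?_⟩
      rw [show g⁻¹ * (x⁻¹ * g * x) = (g⁻¹ * x⁻¹ * g⁻¹⁻¹) * x by group]
      exact R.mul_mem (Subgroup.Normal.conj_mem inferInstance _ (R.inv_mem hx) _) hx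
    rw [hHR, Subgroup.mem_bot, inv_mul_eq_one] at h2
    calc g * x * g⁻¹ = x * (x⁻¹ * g * x) * g⁻¹ := by group
      _ = x := by rw [← h2, mul_inv_cancel_right]

/-- Three conjugates of a Hall `π`-subgroup meet in the core. -/
theorem three_conjugates (hT : TwoPointProp.{u}) (h : PiChain π G) (H : Subgroup G)
    (hH : IsPiHall π H) :
    ∃ x y : G, H ⊓ MulAut.conj x • H ⊓ MulAut.conj y • H = piCore π G := by
  set O := piCore π G with hOdef
  let f := QuotientGroup.mk' O
  have hOπ : BGSigma.IsPiSub π O := BGSigma.isPiSub_piCore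
  have hOH : O ≤ H := by
    have h1 : BGSigma.IsPiSub π (H ⊔ O) := BGSigma.IsPiSub.sup_normal hH.1 hOπ
    have h2 : H.relIndex (H ⊔ O) = 1 := Nat.eq_one_iff_not_exists_prime_dvd.2 fun q hq hd =>
      hH.2 q hq (h1 q hq (hd.trans (Subgroup.relIndex_dvd_card _ _)))
        (hd.trans (Subgroup.relIndex_dvd_index_of_le le_sup_left))
    exact le_sup_right.trans (Subgroup.relIndex_eq_one.1 h2)
  have hO' : piCore π (G ⧸ O) = ⊥ := by
    refine le_bot_iff.1 ?_
    set M := (piCore π (G ⧸ O)).comap f
    have hM : BGSigma.IsPiSub π M := by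
      intro q hq hd
      have e : Nat.card M = Nat.card O * Nat.card (piCore π (G ⧸ O)) := by
        rw [← card_mul_relIndex' (show O ≤ M from fun x hx => by
          show f x ∈ piCore π (G ⧸ O)
          rw [show f x = 1 from (QuotientGroup.eq_one_iff x).2 hx]; exact one_mem _)]
        congr 1
        have hbot : (⊥ : Subgroup (G ⧸ O)).comap f = O := by
          rw [MonoidHom.comap_bot, QuotientGroup.ker_mk']
        calc O.relIndex M = ((⊥ : Subgroup (G ⧸ O)).comap f).relIndex M := by rw [hbot]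
          _ = Nat.card (piCore π (G ⧸ O)) := by
            rw [Subgroup.relIndex_comap,
              Subgroup.map_comap_eq_self_of_surjective (QuotientGroup.mk'_surjective O),
              Subgroup.relIndex_bot_left]
      rw [e] at hd
      rcases hq.dvd_mul.1 hd with hd | hd
      · exact hOπ q hq hd
      · exact BGSigma.isPiSub_piCore q hq hd
    have hMO : M ≤ O := BGSigma.le_piCore inferInstance hM
    intro z hz
    obtain ⟨x, rfl⟩ := QuotientGroup.mk'_surjective O z
    exact Subgroup.mem_bot.2 ((QuotientGroup.eq_one_iff x).2 (hMO hz))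
  obtain ⟨x, y, hxy⟩ := three_conjugates_of_core_bot hT
    (h.map f (QuotientGroup.mk'_surjective O)) hO' (H.map f) (BGSigma.IsPiSub.map hH.1 f)
  obtain ⟨x, rfl⟩ := QuotientGroup.mk'_surjective O x
  obtain ⟨y, rfl⟩ := QuotientGroup.mk'_surjective O y
  refine ⟨x, y, le_antisymm ?_ ?_⟩
  · rintro g ⟨⟨hg, hgx⟩, hgy⟩
    have hm : ∀ z : G, g ∈ MulAut.conj z • H → f g ∈ MulAut.conj (f z) • H.map f := by
      rintro z ⟨w, hw, rfl⟩
      refine ⟨f w, ⟨w, hw, rfl⟩, ?_⟩
      show f z * f w * (f z)⁻¹ = f (z * w * z⁻¹)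
      simp
    exact (QuotientGroup.eq_one_iff g).1 (hxy _ ⟨g, hg, rfl⟩ (hm x hgx) (hm y hgy))
  · intro g hg
    have hc : ∀ z : G, g ∈ MulAut.conj z • H := fun z => by
      rw [Subgroup.mem_pointwise_smul_iff_inv_smul_mem]
      apply hOH
      simpa using Subgroup.Normal.conj_mem inferInstance g hg z⁻¹
    exact ⟨⟨hOH hg, hc x⟩, hc y⟩

end Cfsg.Agent.HT72
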