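import Cfsg.Agent.HT72.Pairs
import Cfsg.Agent.HT72.PiSolv

/-!
The base-two cluster: both reductions composed.
-/

set_option autoImplicit false

universe u

namespace Cfsg.Agent.HT72

open scoped Pointwise

theorem twoPointProp_of_baseTwo (hB : BaseTwoProp.{u}) : TwoPointProp.{u} :=
  fun A K _ _ _ _ _ _ hA hcop => exists_pair_coprime (A := A) (K := K) hB hA hcop

theorem three_conjugates_of_baseTwo (hB : BaseTwoProp.{u}) {G : Type u} [Group G] [Finite G]
    {π : Set ℕ} (h : PiChain π G) (H : Subgroup G) (hH : Cfsg.IsPiHall π H) :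
    ∃ x y : G, H ⊓ MulAut.conj x • H ⊓ MulAut.conj y • H = Cfsg.piCore π G :=
  three_conjugates (twoPointProp_of_baseTwo hB) h H hH

end Cfsg.Agent.HT72
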