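import Mathlib

/-!
Two finite actions of one group with the same numbers of fixed points for every subgroup have
the same numbers of points with trivial stabiliser.
-/

set_option autoImplicit false
set_option linter.unusedSectionVars false

namespace Cfsg.Agent.HT72

variable {A : Type*} [Group A] [Finite A]

/-- The number of points fixed by every element of `B`. -/
noncomputable def numFixed (X : Type*) [MulAction A X] (B : Subgroup A) : ℕ :=
  Nat.card {x : X // ∀ b ∈ B, b • x = x}

/-- The number of points with stabiliser exactly `B`. -/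
noncomputable def numStab (X : Type*) [MulAction A X] (B : Subgroup A) : ℕ :=
  Nat.card {x : X // MulAction.stabilizer A x = B}

theorem numFixed_eq_sum (X : Type*) [MulAction A X] [Finite X] [Fintype (Subgroup A)]
    (B : Subgroup A)
    [DecidablePred fun C : Subgroup A => B < C] :
    numFixed X B = numStab X B +
      ∑ C ∈ Finset.univ.filter (fun C : Subgroup A => B < C), numStab X C := by
  classical
  haveI := Fintype.ofFinite X
  simp only [numFixed, numStab, Nat.card_eq_fintype_card, Fintype.card_subtype]
  have h : Finset.univ.filter (fun x : X => ∀ b ∈ B, b • x = x) =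
      (insert B (Finset.univ.filter (fun C : Subgroup A => B < C))).biUnion
        (fun C => Finset.univ.filter (fun x : X => MulAction.stabilizer A x = C)) := by
    ext x
    simp only [Finset.mem_filter, Finset.mem_univ, true_and, Finset.mem_biUnion, Finset.mem_insert]
    constructor
    · intro hx
      exact ⟨_, eq_or_lt_of_le (show B ≤ MulAction.stabilizer A x from hx) |>.imp Eq.symm id, rfl⟩
    · rintro ⟨C, hC, rfl⟩ b hb
      rcases hC with hC | hC
      · exact (hC.symm ▸ hb : b ∈ MulAction.stabilizer A x)
      · exact hC.le hb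
  rw [h, Finset.card_biUnion]
  · rw [Finset.sum_insert (by simp)]
  · intro C _ D _ hCD
    exact Finset.disjoint_left.2 fun x hx hy =>
      hCD ((Finset.mem_filter.1 hx).2.symm.trans (Finset.mem_filter.1 hy).2)

theorem numStab_eq {X Y : Type*} [MulAction A X] [MulAction A Y] [Finite X] [Finite Y]
    (h : ∀ B : Subgroup A, numFixed X B = numFixed Y B) :
    ∀ B : Subgroup A, numStab X B = numStab Y B := by
  classical
  haveI := Fintype.ofFinite (Subgroup A)
  intro B
  induction B using WellFoundedGT.induction with
  | _ B ih =>
    have h1 := numFixed_eq_sum X B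
    have h2 := numFixed_eq_sum Y B
    have h3 : ∑ C ∈ Finset.univ.filter (fun C : Subgroup A => B < C), numStab X C =
        ∑ C ∈ Finset.univ.filter (fun C : Subgroup A => B < C), numStab Y C :=
      Finset.sum_congr rfl fun C hC => ih C (Finset.mem_filter.1 hC).2
    have := h B
    omega

theorem exists_trivial_stab {X Y : Type*} [MulAction A X] [MulAction A Y] [Finite X] [Finite Y]
    (h : ∀ B : Subgroup A, numFixed X B = numFixed Y B) {y : Y}
    (hy : MulAction.stabilizer A y = ⊥) : ∃ x : X, MulAction.stabilizer A x = ⊥ := by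
  have h1 : 0 < numStab Y (⊥ : Subgroup A) := Nat.card_pos_iff.2 ⟨⟨⟨y, hy⟩⟩, inferInstance⟩
  rw [← numStab_eq h] at h1
  obtain ⟨⟨x, hx⟩⟩ := (Nat.card_pos_iff.1 h1).1
  exact ⟨x, hx⟩

theorem numFixed_prod (X Y : Type*) [MulAction A X] [MulAction A Y] (B : Subgroup A) :
    numFixed (X × Y) B = numFixed X B * numFixed Y B := by
  simp only [numFixed, ← Nat.card_prod]
  exact Nat.card_congr
    { toFun := fun z => (⟨z.1.1, fun b hb => congrArg Prod.fst (z.2 b hb)⟩,
        ⟨z.1.2, fun b hb => congrArg Prod.snd (z.2 b hb)⟩)
      invFun := fun z => ⟨(z.1.1, z.2.1), fun b hb => Prod.ext (z.1.2 b hb) (z.2.2 b hb)⟩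
      left_inv := fun z => rfl
      right_inv := fun z => rfl }

theorem numFixed_pi {ι : Type*} [Fintype ι] (X : ι → Type*) [∀ i, MulAction A (X i)]
    (B : Subgroup A) : numFixed (∀ i, X i) B = ∏ i, numFixed (X i) B := by
  simp only [numFixed, ← Nat.card_pi]
  exact Nat.card_congr
    { toFun := fun z i => ⟨z.1 i, fun b hb => congrFun (z.2 b hb) i⟩
      invFun := fun z => ⟨fun i => (z i).1, fun b hb => funext fun i => (z i).2 b hb⟩
      left_inv := fun z => rfl
      right_inv := fun z => rfl }

end Cfsg.Agent.HT72
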