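import Cfsg.Agent.HT72.Marks
import Cfsg.Agent.Lib.Coprime.Hom
import Cfsg.Agent.Lib.Coprime.Action
import Cfsg.Agent.Lib.PGroup.Basic
import Cfsg.Agent.FG72.InvariantComplement
import Cfsg.Agent.BC85.BaseTwo.Main
import Cfsg.Agent.S0205

/-!
A solvable group of coprime automorphisms has two points with trivial common stabiliser, given the
statement for linear groups in odd characteristic (Hartley and Turull).
-/

set_option autoImplicit false
set_option linter.unusedSectionVars false

universe u v

namespace Cfsg.Agent.HT72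

/-- Two vectors with trivial common stabiliser for coprime solvable linear groups over a prime field
of odd order. -/
def BaseTwoProp : Prop :=
  ∀ (p : ℕ) [Fact p.Prime], p ≠ 2 →
    ∀ (V : Type v) [AddCommGroup V] [Module (ZMod p) V] [Finite V]
      (G : Type v) [Group G] [Finite G] [Group.IsSolvable G] (ρ : Representation (ZMod p) G V),
      Function.Injective ρ → (Nat.card G).Coprime (Nat.card V) →
        ∃ x y : V, ∀ g : G, ρ g x = x → ρ g y = y → g = 1

/-- A coprime solvable group of automorphisms of an elementary abelian group has a regular pair. -/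
theorem exists_pair_elementary (hB : BaseTwoProp.{v}) {Q : Type v} [CommGroup Q] [Finite Q]
    {p : ℕ} [Fact p.Prime] (hQ : ∀ x : Q, x ^ p = 1) (X : Subgroup (MulAut Q))
    (hX : Group.IsSolvable X) (hcop : (Nat.card X).Coprime (Nat.card Q)) :
    ∃ x y : Q, ∀ f ∈ X, f x = x → f y = y → f = 1 := by
  classical
  rcases subsingleton_or_nontrivial Q with hs | hnt
  · exact ⟨1, 1, fun f _ _ _ => MulEquiv.ext fun z => Subsingleton.elim _ _⟩
  obtain ⟨z, hz⟩ := exists_ne (1 : Q)
  have hpQ : p ∣ Nat.card Q := orderOf_eq_prime (hQ z) hz ▸ orderOf_dvd_natCard z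
  have hXp : (Nat.card X).Coprime p := hcop.coprime_dvd_right hpQ
  by_cases hp2 : p = 2
  · subst hp2
    letI : DistribMulAction X (Additive Q) :=
      { smul := fun f a => Additive.ofMul ((f : MulAut Q) a.toMul)
        one_smul := fun a => rfl
        mul_smul := fun f g a => rfl
        smul_zero := fun f => congrArg Additive.ofMul (map_one (f : MulAut Q))
        smul_add := fun f a b => congrArg Additive.ofMul (map_mul (f : MulAut Q) a.toMul b.toMul) }
    haveI : FaithfulSMul X (Additive Q) :=
      ⟨fun {f g} h => Subtype.ext (MulEquiv.ext fun a => Additive.ofMul.injective (h (Additive.ofMul a)))⟩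
    have hodd : Odd (Nat.card X) := Nat.coprime_two_right.1 hXp
    have hcr : ∀ U : AddSubgroup (Additive Q), (∀ f : X, ∀ a ∈ U, f • a ∈ U) →
        ∃ W : AddSubgroup (Additive Q), (∀ f : X, ∀ w ∈ W, f • w ∈ W) ∧ U ⊓ W = ⊥ ∧ U ⊔ W = ⊤ := by
      intro U hU
      obtain ⟨D, hD, -, -, hDW, hDS⟩ := FG72.exists_invariant_complement X hXp
        (C := ⊥) (W := AddSubgroup.toSubgroup' U) (M := ⊤) (FG72.isInv_bot X)
        (fun f hf a ha => hU ⟨f, hf⟩ (Additive.ofMul a) ha)
        (FG72.isInv_top X) bot_le le_top (fun a _ => Subgroup.mem_bot.2 (hQ a))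
      refine ⟨Subgroup.toAddSubgroup D, fun f a ha => hD f f.2 a.toMul ha, ?_, ?_⟩
      · refine le_bot_iff.1 fun a ha => ?_
        have : a.toMul ∈ D ⊓ AddSubgroup.toSubgroup' U := ⟨ha.2, ha.1⟩
        rw [hDW, Subgroup.mem_bot] at this
        exact AddSubgroup.mem_bot.2 this
      · refine eq_top_iff.2 fun a _ => ?_
        obtain ⟨d, hd, w, hw, e⟩ :=
          Subgroup.mem_sup.1 (hDS ▸ Subgroup.mem_top a.toMul : a.toMul ∈ D ⊔ AddSubgroup.toSubgroup' U)
        rw [sup_comm]
        exact AddSubgroup.mem_sup.2 ⟨Additive.ofMul d, hd, Additive.ofMul w, hw,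
          congrArg Additive.ofMul e⟩
    obtain ⟨x, y, h⟩ := BC85.BaseTwo.exists_pair (fun G _ _ hG => S0205.result hG) hodd hcr
    exact ⟨x.toMul, y.toMul, fun f hf h1 h2 => congrArg Subtype.val
      (h ⟨f, hf⟩ (congrArg Additive.ofMul h1) (congrArg Additive.ofMul h2))⟩
  · letI : Module (ZMod p) (Additive Q) := AddCommGroup.zmodModule fun a => hQ a.toMul
    letI : DistribMulAction X (Additive Q) :=
      { smul := fun f a => Additive.ofMul ((f : MulAut Q) a.toMul)
        one_smul := fun a => rfl
        mul_smul := fun f g a => rfl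
        smul_zero := fun f => congrArg Additive.ofMul (map_one (f : MulAut Q))
        smul_add := fun f a b => congrArg Additive.ofMul (map_mul (f : MulAut Q) a.toMul b.toMul) }
    haveI : SMulCommClass X (ZMod p) (Additive Q) := ⟨fun f c a =>
      ZMod.map_smul (DistribSMul.toAddMonoidHom (Additive Q) f) c a⟩
    let ρ : Representation (ZMod p) X (Additive Q) := DistribMulAction.toModuleEnd (ZMod p) (Additive Q)
    have hinj : Function.Injective ρ := fun f g h => Subtype.ext (MulEquiv.ext fun a =>
      Additive.ofMul.injective (LinearMap.congr_fun h (Additive.ofMul a)))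
    haveI : Finite (Additive Q) := ‹Finite Q›
    obtain ⟨x, y, h⟩ := hB p hp2 (Additive Q) X ρ hinj hcop
    exact ⟨x.toMul, y.toMul, fun f hf h1 h2 => congrArg Subtype.val
      (h ⟨f, hf⟩ (congrArg Additive.ofMul h1) (congrArg Additive.ofMul h2))⟩

/-- A coprime solvable group acting on a `p`-group has a pair fixed only by the kernel. -/
theorem exists_pair_pgroup (hB : BaseTwoProp.{v}) {A : Type u} [Group A] [Finite A]
    {P : Type v} [Group P] [Finite P] (φ : A →* MulAut P) {p : ℕ} [Fact p.Prime] (hP : IsPGroup p P)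
    (hA : Group.IsSolvable A) (hcop : (Nat.card A).Coprime (Nat.card P)) :
    ∃ x y : P, ∀ a : A, φ a x = x → φ a y = y → ∀ z, φ a z = z := by
  classical
  letI : CommGroup (P ⧸ frattini P) :=
    { (inferInstance : Group (P ⧸ frattini P)) with
      mul_comm := fun a b => PGroup.quotient_frattini_commute hP a b }
  have hchar : ∀ (f : MulAut P), (frattini P).map f.toMonoidHom = frattini P := fun f =>
    Subgroup.characteristic_iff_map_eq.1 frattini_characteristic f
  let ψ : A →* MulAut (P ⧸ frattini P) :=
    { toFun := fun a => QuotientGroup.congr _ _ (φ a) (hchar (φ a))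
      map_one' := MulEquiv.ext fun q => by
        induction q using QuotientGroup.induction_on with
        | H z =>
          show ((φ 1 z : P) : P ⧸ frattini P) = _
          rw [map_one]; rfl
      map_mul' := fun a b => MulEquiv.ext fun q => by
        induction q using QuotientGroup.induction_on with
        | H z =>
          show ((φ (a * b) z : P) : P ⧸ frattini P) = _
          rw [map_mul]; rfl }
  have hψ : ∀ (a : A) (z : P), ψ a (z : P ⧸ frattini P) = ((φ a z : P) : P ⧸ frattini P) := fun a z => rfl
  haveI := hA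
  have hXs : Group.IsSolvable ψ.range :=
    Group.isSolvable_of_surjective ψ.rangeRestrict_surjective
  have hXc : (Nat.card ψ.range).Coprime (Nat.card (P ⧸ frattini P)) :=
    (hcop.coprime_dvd_left (Subgroup.card_range_dvd ψ)).coprime_dvd_right
      (Subgroup.card_quotient_dvd_card _)
  obtain ⟨x, y, hxy⟩ := exists_pair_elementary hB (PGroup.quotient_frattini_pow hP) ψ.range hXs hXc
  obtain ⟨x, rfl⟩ := QuotientGroup.mk_surjective x
  obtain ⟨y, rfl⟩ := QuotientGroup.mk_surjective y
  refine ⟨x, y, fun a hx hy => ?_⟩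
  have h1 : ψ a = 1 := hxy _ ⟨a, rfl⟩ (by rw [hψ, hx]) (by rw [hψ, hy])
  -- the fixed points of `a` cover the Frattini quotient
  let B := Subgroup.zpowers a
  let F : Subgroup P := (φ a).toMonoidHom.eqLocus (MonoidHom.id P)
  have hF : F = ⊤ := by
    apply frattini_nongenerating
    refine eq_top_iff.2 fun z _ => ?_
    have hz : ∀ b : B, z⁻¹ * (φ.comp B.subtype) b z ∈ frattini P := by
      rintro ⟨b, i, rfl⟩
      rw [← QuotientGroup.eq]
      show (z : P ⧸ frattini P) = ((φ (a ^ i) z : P) : P ⧸ frattini P)
      rw [← hψ, map_zpow, h1, one_zpow]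
      rfl
    obtain ⟨n, hn, hfix⟩ := Coprime.exists_fixed_in_coset_hom (φ.comp B.subtype) (frattini P)
      (fun b x hx' => (hchar (φ b)).le ⟨x, hx', rfl⟩)
      ((hcop.coprime_dvd_left (Subgroup.card_subgroup_dvd_card B)).coprime_dvd_right
        (Subgroup.card_subgroup_dvd_card _))
      (Or.inl inferInstance) z hz
    have hmem : z * n ∈ F := hfix ⟨a, Subgroup.mem_zpowers a⟩
    have : z = (z * n) * n⁻¹ := by group
    rw [this]
    exact Subgroup.mul_mem_sup hmem (inv_mem hn)
  intro z
  exact (hF ▸ Subgroup.mem_top z : z ∈ F)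

variable {A : Type u} [Group A] [Finite A] {K : Type v} [Group K] [Finite K]
  [MulDistribMulAction A K]

/-- The fixed subgroup of `B`. -/
def fixSub (K : Type v) [Group K] [MulDistribMulAction A K] (B : Subgroup A) : Subgroup K where
  carrier := {k | ∀ b ∈ B, b • k = k}
  one_mem' _ _ := smul_one _
  mul_mem' hx hy b hb := by rw [smul_mul', hx b hb, hy b hb]
  inv_mem' hx b hb := by rw [smul_inv', hx b hb]

/-- Internal version: an invariant Sylow subgroup meets the centraliser in a Sylow subgroup. -/
theorem factorization_fixed_internal {G : Type*} [Group G] [Finite G] (B K : Subgroup G)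
    (hB : Group.IsSolvable B) (hBK : B ≤ Subgroup.normalizer (K : Set G))
    (hcop : (Nat.card B).Coprime (Nat.card K)) {q : ℕ} [hq : Fact q.Prime] (P : Sylow q K)
    (hP : B ≤ Subgroup.normalizer ((P : Subgroup K).map K.subtype : Set G)) :
    (Nat.card ↥((P : Subgroup K).map K.subtype ⊓ Subgroup.centralizer (B : Set G))).factorization q
      = (Nat.card ↥(K ⊓ Subgroup.centralizer (B : Set G))).factorization q := by
  set PG := (P : Subgroup K).map K.subtype with hPG
  set W := K ⊓ Subgroup.centralizer (B : Set G) with hW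
  apply le_antisymm
  · exact (Nat.factorization_le_iff_dvd Nat.card_pos.ne' Nat.card_pos.ne').mpr
      (Subgroup.card_dvd_of_le (inf_le_inf_right _ (Subgroup.map_subtype_le _))) q
  · obtain ⟨R⟩ : Nonempty (Sylow q W) := inferInstance
    set RG := (R : Subgroup W).map W.subtype with hRG
    have hR : B ≤ Subgroup.normalizer (RG : Set G) :=
      Coprime.le_normalizer_of_conj_mem fun b hb r hr => by
        have hr2 : r ∈ Subgroup.centralizer (B : Set G) := ((Subgroup.map_subtype_le _) hr).2
        have h2 : b * r = r * b := Subgroup.mem_centralizer_iff.mp hr2 b hb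
        rwa [h2, mul_inv_cancel_right]
    obtain ⟨P', hP', hP'A⟩ := Coprime.exists_invariant_sylow_ge B K hBK hcop (Or.inl hB) q
      RG ((Subgroup.map_subtype_le _).trans inf_le_left) (R.isPGroup'.map _) hR
    obtain ⟨c, hc, hcP⟩ := Coprime.exists_invariant_sylow_conj B K hBK hcop (Or.inl hB) q
      P' P hP'A hP
    let g : G →* G := (MulAut.conj (c : G)).toMonoidHom
    have hle : RG.map g ≤ PG ⊓ Subgroup.centralizer (B : Set G) := by
      rintro _ ⟨r, hr, rfl⟩
      refine ⟨?_, ?_⟩
      · obtain ⟨r', hr', rfl⟩ := hP' hr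
        refine ⟨c * r' * c⁻¹, ?_, rfl⟩
        rw [← hcP]
        exact ⟨r', hr', rfl⟩
      · have hr2 : r ∈ Subgroup.centralizer (B : Set G) := ((Subgroup.map_subtype_le _) hr).2
        refine Subgroup.mem_centralizer_iff.mpr fun b hb => ?_
        have h1 : Commute b (c : G) := Subgroup.mem_centralizer_iff.mp hc b hb
        have h2 : Commute b r := Subgroup.mem_centralizer_iff.mp hr2 b hb
        exact ((h1.mul_right h2).mul_right h1.inv_right).eq
    have hcard : (Nat.card RG).factorization q = (Nat.card W).factorization q := by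
      rw [hRG, Subgroup.card_map_of_injective W.subtype_injective, R.card_eq_multiplicity,
        hq.out.factorization_pow, Finsupp.single_eq_same]
    have hg : Function.Injective g := (MulAut.conj (c : G)).injective
    rw [← hcard, ← Nat.card_congr (RG.equivMapOfInjective g hg).symm.toEquiv]
    exact (Nat.factorization_le_iff_dvd Nat.card_pos.ne' Nat.card_pos.ne').mpr
      (Subgroup.card_dvd_of_le hle) q

theorem factorization_fixed_sylow (hA : Group.IsSolvable A)
    (hcop : (Nat.card A).Coprime (Nat.card K)) {q : ℕ} [Fact q.Prime] (P : Sylow q K)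
    (hP : ∀ a : A, ∀ x ∈ (P : Subgroup K), a • x ∈ (P : Subgroup K)) (B : Subgroup A) :
    (Nat.card ↥((P : Subgroup K) ⊓ fixSub K B)).factorization q
      = (Nat.card ↥(fixSub K B)).factorization q := by
  let φ := MulDistribMulAction.toMulAut A K
  haveI := Coprime.finite_semidirect φ
  let Bh : Subgroup (K ⋊[φ] A) := B.map SemidirectProduct.inr
  let Kh : Subgroup (K ⋊[φ] A) := Coprime.inlRange φ
  let e : K ≃* Kh := MonoidHom.ofInjective SemidirectProduct.inl_injective
  let Ph : Sylow q Kh := P.comapOfInjective e.symm.toMonoidHom e.symm.injective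
    (fun y _ => e.symm.surjective y)
  have hPh : (Ph : Subgroup Kh).map Kh.subtype = (P : Subgroup K).map SemidirectProduct.inl := by
    ext z
    constructor
    · rintro ⟨w, hw, rfl⟩
      exact ⟨e.symm w, hw, congrArg Subtype.val (e.apply_symm_apply w)⟩
    · rintro ⟨k, hk, rfl⟩
      exact ⟨e k, (show e.symm (e k) ∈ (P : Subgroup K) from (e.symm_apply_apply k).symm ▸ hk), rfl⟩
  have hBs : Group.IsSolvable Bh := by
    haveI := hA
    exact Group.isSolvable_of_surjective
      (f := (B.equivMapOfInjective _ SemidirectProduct.inr_injective).toMonoidHom)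
      (B.equivMapOfInjective _ SemidirectProduct.inr_injective).surjective
  have hBle : Bh ≤ Coprime.inrRange φ := Subgroup.map_le_range _ _
  have hfix : ∀ S : Subgroup K,
      S.map SemidirectProduct.inl ⊓ Subgroup.centralizer (Bh : Set (K ⋊[φ] A)) =
        (S ⊓ fixSub K B).map SemidirectProduct.inl := by
    intro S
    ext z
    constructor
    · rintro ⟨⟨k, hk, rfl⟩, hc⟩
      refine ⟨k, ⟨hk, fun b hb => ?_⟩, rfl⟩
      have h1 := Subgroup.mem_centralizer_iff.1 hc _ ⟨b, hb, rfl⟩
      apply SemidirectProduct.inl_injective (φ := φ)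
      show SemidirectProduct.inl (φ b k) = _
      rw [← Coprime.inr_mul_inl_mul_inv φ b k, h1, mul_inv_cancel_right]
    · rintro ⟨k, ⟨hk, hkf⟩, rfl⟩
      refine ⟨⟨k, hk, rfl⟩, Subgroup.mem_centralizer_iff.2 ?_⟩
      rintro _ ⟨b, hb, rfl⟩
      have h1 := Coprime.inr_mul_inl_mul_inv φ b k
      rw [show φ b k = k from hkf b hb] at h1
      exact mul_inv_eq_iff_eq_mul.1 h1
  have hcard : ∀ S : Subgroup K,
      Nat.card ↥(S.map (SemidirectProduct.inl : K →* K ⋊[φ] A)) = Nat.card S := Coprime.card_map_inl φ
  have h := factorization_fixed_internal Bh Kh hBs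
    (hBle.trans (Coprime.inrRange_le_normalizer φ))
    (by
      rw [Coprime.card_inlRange]
      exact hcop.coprime_dvd_left
        (((Subgroup.card_map_of_injective SemidirectProduct.inr_injective).dvd).trans
          (Subgroup.card_subgroup_dvd_card B))) Ph
    (by rw [hPh]; exact hBle.trans (Coprime.inrRange_le_normalizer_map φ hP))
  rw [hPh, hfix, show Kh = (⊤ : Subgroup K).map SemidirectProduct.inl from
    (MonoidHom.range_eq_map _), hfix, hcard, hcard, top_inf_eq] at h
  exact h

/-- The Hartley-Turull reduction. -/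
theorem exists_pair_coprime (hB : BaseTwoProp.{v}) [FaithfulSMul A K] (hA : Group.IsSolvable A)
    (hcop : (Nat.card A).Coprime (Nat.card K)) :
    ∃ x y : K, ∀ a : A, a • x = x → a • y = y → a = 1 := by
  classical
  let ι := {q : ℕ // q ∈ (Nat.card K).primeFactors}
  haveI : ∀ q : ι, Fact (q : ℕ).Prime := fun q => ⟨Nat.prime_of_mem_primeFactors q.2⟩
  let φ := MulDistribMulAction.toMulAut A K
  have hP : ∀ q : ι, ∃ P : Sylow (q : ℕ) K, ∀ a : A, ∀ x ∈ (P : Subgroup K), a • x ∈ (P : Subgroup K) :=
    fun q => Coprime.exists_invariant_sylow_hom φ hcop (Or.inl hA) q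
  choose P hPi using hP
  letI : ∀ q : ι, MulDistribMulAction A ↥(P q : Subgroup K) := fun q =>
    { smul := fun a x => ⟨a • (x : K), hPi q a x x.2⟩
      one_smul := fun x => Subtype.ext (one_smul A (x : K))
      mul_smul := fun a b x => Subtype.ext (mul_smul a b (x : K))
      smul_mul := fun a x y => Subtype.ext (smul_mul' a (x : K) (y : K))
      smul_one := fun a => Subtype.ext (smul_one a) }
  let Y := ∀ q : ι, ↥(P q : Subgroup K)
  -- fixed point counts
  have hf : ∀ B : Subgroup A, numFixed K B = numFixed Y B := by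
    intro B
    rw [numFixed_pi]
    have hq : ∀ q : ι, numFixed ↥(P q : Subgroup K) B
        = (q : ℕ) ^ (Nat.card ↥(fixSub K B)).factorization q := by
      intro q
      rw [← factorization_fixed_sylow hA hcop (P q) (hPi q) B]
      obtain ⟨k, hk⟩ := IsPGroup.iff_card.1 ((P q).isPGroup'.to_le
        (inf_le_left : (P q : Subgroup K) ⊓ fixSub K B ≤ P q))
      rw [hk, (Fact.out : (q : ℕ).Prime).factorization_pow, Finsupp.single_eq_same, ← hk]
      exact Nat.card_congr
        { toFun := fun x => ⟨x.1.1, x.1.2, fun b hb => congrArg Subtype.val (x.2 b hb)⟩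
          invFun := fun x => ⟨⟨x.1, x.2.1⟩, fun b hb => Subtype.ext (x.2.2 b hb)⟩
          left_inv := fun x => rfl
          right_inv := fun x => rfl }
    rw [Finset.prod_congr rfl fun q _ => hq q]
    have hK0 : Nat.card ↥(fixSub K B) ≠ 0 := Nat.card_pos.ne'
    have hsub : (Nat.card ↥(fixSub K B)).factorization.support ⊆ (Nat.card K).primeFactors := by
      rw [Nat.support_factorization]
      exact Nat.primeFactors_mono (Subgroup.card_subgroup_dvd_card _) Nat.card_pos.ne'
    show Nat.card ↥(fixSub K B) = _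
    conv_lhs => rw [← Nat.prod_factorization_pow_eq_self hK0]
    rw [Finsupp.prod_of_support_subset _ hsub _ (fun i _ => pow_zero i)]
    exact (Finset.prod_coe_sort (Nat.card K).primeFactors
      (fun q => q ^ (Nat.card ↥(fixSub K B)).factorization q)).symm
  -- a pair in the product
  have hq : ∀ q : ι, ∃ x y : ↥(P q : Subgroup K), ∀ a : A, a • x = x → a • y = y →
      ∀ z : ↥(P q : Subgroup K), a • z = z := fun q =>
    exists_pair_pgroup hB (MulDistribMulAction.toMulAut A ↥(P q : Subgroup K)) (P q).isPGroup' hA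
      (hcop.coprime_dvd_right (Subgroup.card_subgroup_dvd_card _))
  choose x y hxy using hq
  have hstab : MulAction.stabilizer A ((x, y) : Y × Y) = ⊥ := by
    refine (Subgroup.eq_bot_iff_forall _).2 fun a ha => ?_
    have ha' : a • ((x, y) : Y × Y) = (x, y) := ha
    have hall : ∀ q : ι, ∀ z : ↥(P q : Subgroup K), a • z = z := fun q =>
      hxy q a (congrFun (congrArg Prod.fst ha') q) (congrFun (congrArg Prod.snd ha') q)
    refine eq_of_smul_eq_smul (α := K) fun k => ?_
    rw [one_smul]
    let F : Subgroup K := (φ a).toMonoidHom.eqLocus (MonoidHom.id K)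
    have hF : F = ⊤ := by
      refine Subgroup.eq_top_of_card_eq _ (Nat.dvd_antisymm (Subgroup.card_subgroup_dvd_card _) ?_)
      rw [← Nat.factorization_le_iff_dvd Nat.card_pos.ne' Nat.card_pos.ne']
      intro q
      by_cases hq : q ∈ (Nat.card K).primeFactors
      · have hle : ((P ⟨q, hq⟩ : Sylow q K) : Subgroup K) ≤ F := fun z hz =>
          congrArg Subtype.val (hall ⟨q, hq⟩ ⟨z, hz⟩)
        haveI : Fact q.Prime := ⟨Nat.prime_of_mem_primeFactors hq⟩
        have := (Nat.factorization_le_iff_dvd Nat.card_pos.ne' Nat.card_pos.ne').2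
          (Subgroup.card_dvd_of_le hle) q
        rwa [(P ⟨q, hq⟩).card_eq_multiplicity, (Fact.out : q.Prime).factorization_pow,
          Finsupp.single_eq_same] at this
      · rw [show (Nat.card K).factorization q = 0 from Finsupp.notMem_support_iff.1
          (by rwa [Nat.support_factorization])]
        exact Nat.zero_le _
    exact (hF ▸ Subgroup.mem_top k : k ∈ F)
  have hf2 : ∀ B : Subgroup A, numFixed (K × K) B = numFixed (Y × Y) B := fun B => by
    rw [numFixed_prod, numFixed_prod, hf]
  obtain ⟨⟨a, b⟩, hab⟩ := exists_trivial_stab hf2 hstab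
  exact ⟨a, b, fun g hga hgb => Subgroup.mem_bot.1 (hab ▸ (Prod.ext hga hgb : g • (a, b) = (a, b)))⟩

end Cfsg.Agent.HT72
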